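import Groth.Agent.QC.PullSect

/-!
The base change map on inverse images of sections, and its compatibility with horizontal composition.
-/

set_option autoImplicit false
set_option backward.isDefEq.respectTransparency false
set_option maxHeartbeats 1000000

universe u

open CategoryTheory AlgebraicGeometry Opposite Scheme.Modules

noncomputable section

namespace Groth.Agent.BCHoriz

lemma ext_pullSect {A B : Scheme.{u}} (p : A ⟶ B) {M : B.Modules} {N : A.Modules}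
    (a b : (pullback p).obj M ⟶ N)
    (hab : ∀ (T : B.Opens) (n : Γ(M, T)), a.app (p ⁻¹ᵁ T) (OmegaSh.pullSect p M T n) =
      b.app (p ⁻¹ᵁ T) (OmegaSh.pullSect p M T n)) : a = b := by
  apply ((pullbackPushforwardAdjunction p).homEquiv M N).injective
  rw [Adjunction.homEquiv_unit, Adjunction.homEquiv_unit]
  refine Scheme.Modules.hom_ext _ _ fun T => ?_
  ext n
  exact hab T n

/-- The base change map of a commutative square, in degree zero. -/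
abbrev bcm {A B C D : Scheme.{u}} (f : A ⟶ B) (ξ : A ⟶ C) (η : B ⟶ D) (φ : C ⟶ D)
    (h : f ≫ η = ξ ≫ φ) (M : B.Modules) :
    (pullback φ).obj ((pushforward η).obj M) ⟶ (pushforward ξ).obj ((pullback f).obj M) :=
  (((pullbackPushforwardAdjunction φ).homEquiv ((pushforward η).obj M)
      ((pushforward ξ).obj ((pullback f).obj M))).symm
    ((pushforward η).map ((pullbackPushforwardAdjunction f).unit.app M) ≫
      (pushforwardComp f η).hom.app ((pullback f).obj M) ≫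
      (pushforwardCongr h).hom.app ((pullback f).obj M) ≫
      (pushforwardComp ξ φ).inv.app ((pullback f).obj M)))

lemma preimage_eq {A B C D : Scheme.{u}} {f : A ⟶ B} {ξ : A ⟶ C} {η : B ⟶ D} {φ : C ⟶ D}
    (h : f ≫ η = ξ ≫ φ) (T : D.Opens) : ξ ⁻¹ᵁ (φ ⁻¹ᵁ T) = f ⁻¹ᵁ (η ⁻¹ᵁ T) := by
  rw [← Scheme.Hom.comp_preimage, ← Scheme.Hom.comp_preimage, h]

lemma bcm_pullSect {A B C D : Scheme.{u}} (f : A ⟶ B) (ξ : A ⟶ C) (η : B ⟶ D) (φ : C ⟶ D)
    (h : f ≫ η = ξ ≫ φ) (M : B.Modules) (T : D.Opens) (n : Γ(M, η ⁻¹ᵁ T)) :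
    (bcm f ξ η φ h M).app (φ ⁻¹ᵁ T) (OmegaSh.pullSect φ ((pushforward η).obj M) T n) =
      ((pullback f).obj M).presheaf.map (eqToHom (preimage_eq h T)).op
        (OmegaSh.pullSect f M (η ⁻¹ᵁ T) n) := by
  have h1 := ((pullbackPushforwardAdjunction φ).homEquiv ((pushforward η).obj M)
    ((pushforward ξ).obj ((pullback f).obj M))).apply_symm_apply
    ((pushforward η).map ((pullbackPushforwardAdjunction f).unit.app M) ≫
      (pushforwardComp f η).hom.app ((pullback f).obj M) ≫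
      (pushforwardCongr h).hom.app ((pullback f).obj M) ≫
      (pushforwardComp ξ φ).inv.app ((pullback f).obj M))
  rw [Adjunction.homEquiv_unit] at h1
  exact congr(($h1).app T n)

lemma pullSect_eqToHom {A B : Scheme.{u}} (f : A ⟶ B) (P : B.Modules) :
    ∀ {O₁ O₂ : B.Opens} (e : O₂ = O₁) (m : Γ(P, O₁)),
      OmegaSh.pullSect f P O₂ (P.presheaf.map (eqToHom e).op m) =
        ((pullback f).obj P).presheaf.map (eqToHom (congrArg (f ⁻¹ᵁ ·) e)).op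
          (OmegaSh.pullSect f P O₁ m) := by
  rintro O₁ O₂ rfl m
  simp

lemma app_eqToHom {A : Scheme.{u}} {P Q : A.Modules} (α : P ⟶ Q) :
    ∀ {O₁ O₂ : A.Opens} (e : O₂ = O₁) (z : Γ(P, O₁)),
      α.app O₂ (P.presheaf.map (eqToHom e).op z) = Q.presheaf.map (eqToHom e).op (α.app O₁ z) := by
  rintro O₁ O₂ rfl z
  simp

lemma map_map_eqToHom {A : Scheme.{u}} (P : A.Modules) {O₁ O₂ O₃ : A.Opens} (e : O₂ = O₁)
    (e' : O₃ = O₂) (z : Γ(P, O₁)) :
    P.presheaf.map (eqToHom e').op (P.presheaf.map (eqToHom e).op z) =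
      P.presheaf.map (eqToHom (e'.trans e)).op z := by
  subst e e'
  simp

variable {X Y Z U V W : Scheme.{u}} (f : X ⟶ Y) (g : Y ⟶ Z)
    (ξ : X ⟶ U) (η : Y ⟶ V) (ζ : Z ⟶ W) (φ : U ⟶ V) (ψ : V ⟶ W)
    (h₁ : f ≫ η = ξ ≫ φ) (h₂ : g ≫ ζ = η ≫ ψ) (hw : (f ≫ g) ≫ ζ = ξ ≫ (φ ≫ ψ)) (L : Z.Modules)

lemma key (T : W.Opens) (n : Γ(L, ζ ⁻¹ᵁ T)) :
    ((pullbackComp φ ψ).hom.app ((pushforward ζ).obj L) ≫ bcm (f ≫ g) ξ ζ (φ ≫ ψ) hw L).app
        (φ ⁻¹ᵁ (ψ ⁻¹ᵁ T)) (OmegaSh.pullSect φ _ (ψ ⁻¹ᵁ T) (OmegaSh.pullSect ψ ((pushforward ζ).obj L) T n)) =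
      ((pullback φ).map (bcm g η ζ ψ h₂ L) ≫ bcm f ξ η φ h₁ ((pullback g).obj L) ≫
        (pushforward ξ).map ((pullbackComp f g).hom.app L)).app
        (φ ⁻¹ᵁ (ψ ⁻¹ᵁ T)) (OmegaSh.pullSect φ _ (ψ ⁻¹ᵁ T) (OmegaSh.pullSect ψ ((pushforward ζ).obj L) T n)) := by
  simp only [Scheme.Modules.Hom.comp_app, ConcreteCategory.comp_apply]
  have a1 := Groth.Agent.QC.pullbackComp_hom_pullSect φ ψ ((pushforward ζ).obj L) T n
  have a2 := bcm_pullSect (f ≫ g) ξ ζ (φ ≫ ψ) hw L T n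
  have b1 := Groth.Agent.QC.app_pullSect φ (bcm g η ζ ψ h₂ L) (ψ ⁻¹ᵁ T)
    (OmegaSh.pullSect ψ ((pushforward ζ).obj L) T n)
  have b2 := bcm_pullSect g η ζ ψ h₂ L T n
  have b3 := bcm_pullSect f ξ η φ h₁ ((pullback g).obj L) (ψ ⁻¹ᵁ T)
    (((pullback g).obj L).presheaf.map (eqToHom (preimage_eq h₂ T)).op
      (OmegaSh.pullSect g L (ζ ⁻¹ᵁ T) n))
  have b4 := app_eqToHom ((pullbackComp f g).hom.app L) (preimage_eq h₁ (ψ ⁻¹ᵁ T))
    (OmegaSh.pullSect f ((pullback g).obj L) (η ⁻¹ᵁ (ψ ⁻¹ᵁ T))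
      (((pullback g).obj L).presheaf.map (eqToHom (preimage_eq h₂ T)).op
        (OmegaSh.pullSect g L (ζ ⁻¹ᵁ T) n)))
  have b5 := pullSect_eqToHom f ((pullback g).obj L) (preimage_eq h₂ T) (OmegaSh.pullSect g L (ζ ⁻¹ᵁ T) n)
  have b6 := app_eqToHom ((pullbackComp f g).hom.app L)
    (congrArg (f ⁻¹ᵁ ·) (preimage_eq h₂ T)) (OmegaSh.pullSect f ((pullback g).obj L) (g ⁻¹ᵁ (ζ ⁻¹ᵁ T))
      (OmegaSh.pullSect g L (ζ ⁻¹ᵁ T) n))
  refine (congrArg _ a1).trans (a2.trans ?_)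
  refine ((congrArg _ (congrArg _ (b1.trans (congrArg _ b2)))).trans ((congrArg _ b3).trans ?_)).symm
  refine b4.trans ?_
  rw [b5]
  refine (congrArg _ (b6.trans (congrArg _
    (Groth.Agent.QC.pullbackComp_hom_pullSect f g L (ζ ⁻¹ᵁ T) n)))).trans ?_
  exact map_map_eqToHom _ _ _ _

theorem bcm_comp :
    (pullbackComp φ ψ).hom.app ((pushforward ζ).obj L) ≫ bcm (f ≫ g) ξ ζ (φ ≫ ψ) hw L =
      (pullback φ).map (bcm g η ζ ψ h₂ L) ≫ bcm f ξ η φ h₁ ((pullback g).obj L) ≫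
        (pushforward ξ).map ((pullbackComp f g).hom.app L) := by
  apply ((pullbackPushforwardAdjunction φ).homEquiv _ _).injective
  refine ext_pullSect ψ _ _ fun T n => ?_
  rw [Adjunction.homEquiv_unit, Adjunction.homEquiv_unit]
  exact key f g ξ η ζ φ ψ h₁ h₂ hw L T n

end Groth.Agent.BCHoriz
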